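import Cfsg.Prelude.Def_Classical

/-!
Two Sylow 2-subgroups of `O⁺(2m,2)` meet: each contains the pointwise stabiliser of a totally
singular subspace of dimension `m - 1`, and two such stabilisers share a reflection or a long
root element.
-/

set_option autoImplicit false
set_option linter.unusedSectionVars false

namespace Cfsg.Agent.Lib.SylowPair50

open Matrix
open scoped Pointwise

variable {F : Type*} [Field F] {m : ℕ}

/-- The polar form of the hyperbolic form. -/
def pol (u v : Fin m ⊕ Fin m → F) : F :=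
  ∑ i : Fin m, (u (.inl i) * v (.inr i) + u (.inr i) * v (.inl i))

local notation "Q" => Cfsg.quadFormPlus m F
local notation "O" => Cfsg.isometryGroup F (Cfsg.quadFormPlus m F)

theorem qf_add (u v : Fin m ⊕ Fin m → F) : Q (u + v) = Q u + Q v + pol u v := by
  simp only [Cfsg.quadFormPlus, pol, ← Finset.sum_add_distrib]
  exact Finset.sum_congr rfl fun i _ => by simp only [Pi.add_apply]; ring

theorem qf_smul (c : F) (u : Fin m ⊕ Fin m → F) : Q (c • u) = c * c * Q u := by
  simp only [Cfsg.quadFormPlus, Finset.mul_sum, Pi.smul_apply, smul_eq_mul]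
  exact Finset.sum_congr rfl fun i _ => by ring

theorem pol_comm (u v : Fin m ⊕ Fin m → F) : pol u v = pol v u :=
  Finset.sum_congr rfl fun _ _ => by ring

theorem pol_add_left (u v w : Fin m ⊕ Fin m → F) : pol (u + v) w = pol u w + pol v w := by
  simp only [pol, ← Finset.sum_add_distrib, Pi.add_apply]
  exact Finset.sum_congr rfl fun _ _ => by ring

theorem pol_smul_left (c : F) (u w : Fin m ⊕ Fin m → F) : pol (c • u) w = c * pol u w := by
  simp only [pol, Finset.mul_sum, Pi.smul_apply, smul_eq_mul]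
  exact Finset.sum_congr rfl fun _ _ => by ring

theorem pol_add_right (u v w : Fin m ⊕ Fin m → F) : pol u (v + w) = pol u v + pol u w := by
  rw [pol_comm, pol_add_left, pol_comm v, pol_comm w]

theorem pol_smul_right (c : F) (u w : Fin m ⊕ Fin m → F) : pol u (c • w) = c * pol u w := by
  rw [pol_comm, pol_smul_left, pol_comm]

theorem pol_eq (u v : Fin m ⊕ Fin m → F) : pol u v = Q (u + v) - Q u - Q v := by
  rw [qf_add]; ring

theorem pol_single_inl (v : Fin m ⊕ Fin m → F) (i : Fin m) :
    pol v (Pi.single (.inl i) 1) = v (.inr i) := by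
  rw [pol, Finset.sum_eq_single i] <;> simp +contextual

theorem pol_single_inr (v : Fin m ⊕ Fin m → F) (i : Fin m) :
    pol v (Pi.single (.inr i) 1) = v (.inl i) := by
  rw [pol, Finset.sum_eq_single i] <;> simp +contextual

/-- The action on vectors. -/
noncomputable def act (g : O) (v : Fin m ⊕ Fin m → F) : Fin m ⊕ Fin m → F :=
  ((g : GL (Fin m ⊕ Fin m) F) : Matrix (Fin m ⊕ Fin m) (Fin m ⊕ Fin m) F) *ᵥ v

theorem act_mul (g h : O) (v : Fin m ⊕ Fin m → F) : act (g * h) v = act g (act h v) := by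
  simp [act, Matrix.mulVec_mulVec]

theorem act_one (v : Fin m ⊕ Fin m → F) : act (1 : O) v = v := by simp [act]

theorem act_inv (g : O) (v : Fin m ⊕ Fin m → F) : act g⁻¹ (act g v) = v := by
  rw [← act_mul, inv_mul_cancel, act_one]

theorem qf_act (g : O) (v : Fin m ⊕ Fin m → F) : Q (act g v) = Q v := g.2 v v

theorem act_add (g : O) (u v : Fin m ⊕ Fin m → F) : act g (u + v) = act g u + act g v :=
  Matrix.mulVec_add _ _ _

theorem act_smul (g : O) (c : F) (v : Fin m ⊕ Fin m → F) : act g (c • v) = c • act g v :=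
  Matrix.mulVec_smul _ _ _

theorem pol_act (g : O) (u v : Fin m ⊕ Fin m → F) : pol (act g u) (act g v) = pol u v := by
  rw [pol_eq, pol_eq, ← act_add, qf_act, qf_act, qf_act]

variable (m F) in
/-- The pointwise stabiliser of the standard totally singular subspace of dimension `m - 1`. -/
noncomputable def fixK : Subgroup O where
  carrier := {g | ∀ i : Fin m, (i : ℕ) + 1 < m →
    act g (Pi.single (.inl i) 1) = Pi.single (.inl i) 1}
  mul_mem' := fun {a b} ha hb i hi => by rw [act_mul, hb i hi, ha i hi]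
  one_mem' := fun i _ => act_one _
  inv_mem' := fun {a} ha i hi => by
    conv_lhs => rw [← ha i hi]
    exact act_inv a _

variable [Fintype F]

theorem two_values (hF : Fintype.card F = 2) (x : F) : x = 0 ∨ x = 1 := by
  classical
  have h : (Finset.univ : Finset F) = {0, 1} := by
    refine (Finset.eq_of_subset_of_card_le (Finset.subset_univ _) ?_).symm
    rw [Finset.card_univ, hF, Finset.card_pair zero_ne_one]
  have := Finset.mem_univ x
  rw [h] at this
  simpa using this

theorem add_self (hF : Fintype.card F = 2) (x : F) : x + x = 0 := by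
  haveI : Fact (Nat.Prime 2) := ⟨Nat.prime_two⟩
  haveI : CharP F 2 := charP_of_card_eq_prime hF
  exact CharTwo.add_self_eq_zero x

theorem isPGroup_fixK (hF : Fintype.card F = 2) (hm : 1 ≤ m) : IsPGroup 2 (fixK F m) := by
  classical
  have h2 := two_values hF
  have hs := add_self hF
  have hneg : ∀ x : F, -x = x := fun x => neg_eq_of_add_eq_zero_left (hs x)
  let L : Fin m := ⟨m - 1, by omega⟩
  have hlast : ∀ i : Fin m, i ≠ L → (i : ℕ) + 1 < m := fun i hi => by
    have := Fin.val_ne_of_ne hi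
    simp only [L] at this
    omega
  rintro ⟨g, hg⟩
  refine ⟨3, Subtype.ext ?_⟩
  show g ^ 2 ^ 3 = 1
  have hA : ∀ (v : Fin m ⊕ Fin m → F) (i : Fin m), i ≠ L → act g v (.inr i) = v (.inr i) := by
    intro v i hi
    rw [← pol_single_inl (act g v) i]
    conv_lhs => rw [← hg i (hlast i hi)]
    rw [pol_act, pol_single_inl]
  set a := act g (Pi.single (.inl L) 1) with ha
  set b := act g (Pi.single (.inr L) 1) with hb
  have hB : ∀ v : Fin m ⊕ Fin m → F, (∀ i, i ≠ L → v (.inr i) = 0) →
      act g v (.inl L) = v (.inl L) * a (.inl L) + v (.inr L) * b (.inl L) ∧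
      act g v (.inr L) = v (.inl L) * a (.inr L) + v (.inr L) * b (.inr L) := by
    intro v hv
    have key : ∀ j, act g v j = ∑ i, v (.inl i) * act g (Pi.single (.inl i) 1) j +
        ∑ i, v (.inr i) * act g (Pi.single (.inr i) 1) j := fun j => by
      simp only [act, Matrix.mulVec_single_one, Matrix.col_apply]
      rw [Matrix.mulVec, dotProduct, Fintype.sum_sum_type]
      exact congrArg₂ (· + ·) (Finset.sum_congr rfl fun _ _ => mul_comm _ _)
        (Finset.sum_congr rfl fun _ _ => mul_comm _ _)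
    constructor <;> rw [key, Finset.sum_eq_single L, Finset.sum_eq_single L]
    all_goals first
      | rfl
      | (intro i _ hi; rw [hv i hi, zero_mul])
      | (intro i _ hi; rw [hg i (hlast i hi)]; simp [hi.symm])
      | simp
  have haW : ∀ i, i ≠ L → a (.inr i) = 0 := fun i hi => by
    rw [ha, hA _ i hi, Pi.single_eq_of_ne (by simp)]
  have hbW : ∀ i, i ≠ L → b (.inr i) = 0 := fun i hi => by
    rw [hb, hA _ i hi, Pi.single_eq_of_ne (by simp [hi])]
  have e1 : a (.inl L) * a (.inr L) = 0 := by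
    have h := qf_act g (Pi.single (.inl L) 1)
    rw [← ha, Cfsg.quadFormPlus, Cfsg.quadFormPlus, Finset.sum_eq_single L
      (fun i _ hi => by rw [haW i hi, mul_zero]) (by simp), Finset.sum_eq_zero] at h
    · exact h
    · intro i _; simp
  have e2 : b (.inl L) * b (.inr L) = 0 := by
    have h := qf_act g (Pi.single (.inr L) 1)
    rw [← hb, Cfsg.quadFormPlus, Cfsg.quadFormPlus, Finset.sum_eq_single L
      (fun i _ hi => by rw [hbW i hi, mul_zero]) (by simp), Finset.sum_eq_zero] at h
    · exact h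
    · intro i _; simp
  have e3 : a (.inl L) * b (.inr L) + a (.inr L) * b (.inl L) = 1 := by
    have h := pol_act g (Pi.single (.inl L) 1) (Pi.single (.inr L) 1)
    rw [← ha, ← hb, pol_single_inr, Pi.single_eq_same, pol, Finset.sum_eq_single L
      (fun i _ hi => by rw [haW i hi, hbW i hi]; simp) (by simp)] at h
    exact h
  have hC : ∀ v : Fin m ⊕ Fin m → F, (∀ i, i ≠ L → v (.inr i) = 0) →
      act g (act g v) (.inl L) = v (.inl L) ∧ act g (act g v) (.inr L) = v (.inr L) := by
    intro v hv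
    obtain ⟨k1, k2⟩ := hB (act g v) fun i hi => by rw [hA v i hi]; exact hv i hi
    obtain ⟨k3, k4⟩ := hB v hv
    rw [k1, k2, k3, k4]
    rcases h2 (a (.inl L)) with p | p <;> rcases h2 (a (.inr L)) with r | r <;>
      rcases h2 (b (.inl L)) with s | s <;> rcases h2 (b (.inr L)) with t | t <;>
      simp [p, r, s, t, hs] at e1 e2 e3 ⊢
  set h := g * g with hh
  set M := ((h : GL (Fin m ⊕ Fin m) F) : Matrix (Fin m ⊕ Fin m) (Fin m ⊕ Fin m) F) with hM
  set N := M - 1 with hN
  have hNv : ∀ v, N *ᵥ v = act g (act g v) - v := fun v => by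
    rw [hN, Matrix.sub_mulVec, Matrix.one_mulVec, ← act_mul]
    rfl
  have d1 : ∀ v i, i ≠ L → (N *ᵥ v) (.inr i) = 0 := fun v i hi => by
    rw [hNv, Pi.sub_apply, hA _ i hi, hA _ i hi, sub_self]
  have d2 : ∀ v, (∀ i, i ≠ L → v (.inr i) = 0) →
      (N *ᵥ v) (.inl L) = 0 ∧ ∀ i, (N *ᵥ v) (.inr i) = 0 := by
    intro v hv
    refine ⟨by rw [hNv, Pi.sub_apply, (hC v hv).1, sub_self], fun i => ?_⟩
    rcases eq_or_ne i L with rfl | hi
    · rw [hNv, Pi.sub_apply, (hC v hv).2, sub_self]
    · exact d1 v i hi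
  have d3 : ∀ v, v (.inl L) = 0 → (∀ i, v (.inr i) = 0) → N *ᵥ v = 0 := by
    intro v hl hr
    have hfix : act g v = v := by
      have e : v = ∑ i, v i • (Pi.single i 1 : Fin m ⊕ Fin m → F) := pi_eq_sum_univ' v
      conv_lhs => rw [e, act, Matrix.mulVec_sum]
      conv_rhs => rw [e]
      refine Finset.sum_congr rfl fun i _ => ?_
      rw [Matrix.mulVec_smul]
      rcases i with i | i
      · rcases eq_or_ne i L with rfl | hi
        · rw [hl, zero_smul, zero_smul]
        · exact congrArg _ (hg i (hlast i hi))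
      · rw [hr, zero_smul, zero_smul]
    rw [hNv, hfix, hfix, sub_self]
  have hN3 : N * (N * N) = 0 := by
    refine Matrix.ext_of_mulVec_single fun j => ?_
    rw [← Matrix.mulVec_mulVec, ← Matrix.mulVec_mulVec, Matrix.zero_mulVec]
    obtain ⟨k1, k2⟩ := d2 _ (d1 (Pi.single j 1))
    exact d3 _ k1 k2
  have hdbl : ∀ A : Matrix (Fin m ⊕ Fin m) (Fin m ⊕ Fin m) F, A + A = 0 := fun A =>
    Matrix.ext fun i j => hs (A i j)
  have hsq : ∀ A : Matrix (Fin m ⊕ Fin m) (Fin m ⊕ Fin m) F, (1 + A) * (1 + A) = 1 + A * A := by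
    intro A
    rw [mul_add, add_mul, add_mul, one_mul, one_mul, mul_one, add_add_add_comm, add_assoc 1 A,
      ← add_assoc A A, hdbl, zero_add]
  have hM1 : M = 1 + N := by rw [hN]; abel
  have hh4 : h * h * (h * h) = 1 := by
    refine Subtype.ext (Units.ext ?_)
    show M * M * (M * M) = 1
    rw [hM1, hsq, hsq, show N * N * (N * N) = N * (N * (N * N)) by simp only [mul_assoc], hN3,
      mul_zero, add_zero]
  rw [← hh4, hh]
  norm_num [pow_succ, mul_assoc]

/-- An isometry `v ↦ v + φ v` with `φ² = 0`. -/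
noncomputable def mkInvol (φ : (Fin m ⊕ Fin m → F) →ₗ[F] (Fin m ⊕ Fin m → F)) (hF : Fintype.card F = 2)
    (hφ : ∀ v, φ (φ v) = 0) (hq : ∀ v, Q (v + φ v) = Q v) : O :=
  ⟨Units.mk (LinearMap.toMatrix' (LinearMap.id + φ)) (LinearMap.toMatrix' (LinearMap.id + φ))
      (by
        rw [← LinearMap.toMatrix'_comp, ← LinearMap.toMatrix'_id]
        refine congrArg _ (LinearMap.ext fun v => ?_)
        funext i
        simp [hφ, add_assoc, add_self hF])
      (by
        rw [← LinearMap.toMatrix'_comp, ← LinearMap.toMatrix'_id]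
        refine congrArg _ (LinearMap.ext fun v => ?_)
        funext i
        simp [hφ, add_assoc, add_self hF]), fun u _ => by
    show Q (LinearMap.toMatrix' (LinearMap.id + φ) *ᵥ u) = Q u
    rw [LinearMap.toMatrix'_mulVec]
    exact hq u⟩

theorem act_mkInvol (φ : (Fin m ⊕ Fin m → F) →ₗ[F] (Fin m ⊕ Fin m → F)) (hF : Fintype.card F = 2)
    (hφ : ∀ v, φ (φ v) = 0) (hq : ∀ v, Q (v + φ v) = Q v) (v : Fin m ⊕ Fin m → F) :
    act (mkInvol φ hF hφ hq) v = v + φ v := by
  show LinearMap.toMatrix' (LinearMap.id + φ) *ᵥ v = _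
  rw [LinearMap.toMatrix'_mulVec]
  rfl

/-- The functional `v ↦ pol v a`. -/
noncomputable def polL (a : Fin m ⊕ Fin m → F) : (Fin m ⊕ Fin m → F) →ₗ[F] F where
  toFun v := pol v a
  map_add' u v := pol_add_left u v a
  map_smul' c v := pol_smul_left c v a

theorem exists_common (hF : Fintype.card F = 2) (hm : 1 ≤ m) (g g' : O) :
    ∃ k : O, k ≠ 1 ∧ g⁻¹ * k * g ∈ fixK F m ∧ g'⁻¹ * k * g' ∈ fixK F m := by
  classical
  have h2 := two_values hF
  have hs := add_self hF
  let W : Fin (m - 1) ⊕ Fin (m - 1) → (Fin m ⊕ Fin m → F) :=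
    Sum.elim (fun i => act g (Pi.single (.inl (⟨i.1, by omega⟩ : Fin m)) 1))
      (fun i => act g' (Pi.single (.inl (⟨i.1, by omega⟩ : Fin m)) 1))
  let Φ : (Fin m ⊕ Fin m → F) →ₗ[F] (Fin (m - 1) ⊕ Fin (m - 1) → F) :=
    LinearMap.pi fun i => polL (W i)
  have hker : 2 ≤ Module.finrank F (LinearMap.ker Φ) := by
    have h1 := LinearMap.finrank_range_add_finrank_ker Φ
    have h3 := Submodule.finrank_le (LinearMap.range Φ)
    simp only [Module.finrank_fintype_fun_eq_card, Fintype.card_sum, Fintype.card_fin] at h1 h3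
    omega
  obtain ⟨f, hf⟩ := exists_linearIndependent_of_le_finrank hker
  set x : Fin m ⊕ Fin m → F := (f 0).1 with hx
  set y : Fin m ⊕ Fin m → F := (f 1).1 with hy
  have hxy : ∀ s t : F, s • f 0 + t • f 1 = 0 → s = 0 ∧ t = 0 := LinearIndependent.pair_iff.1 (by
    rw [show ![f 0, f 1] = f from funext fun i => by fin_cases i <;> rfl]
    exact hf)
  have hperp : ∀ a : Fin m ⊕ Fin m → F, a ∈ LinearMap.ker Φ → ∀ i, pol (W i) a = 0 := by
    intro a ha i
    rw [pol_comm]
    exact congrFun (LinearMap.mem_ker.1 ha) i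
  have done : ∀ k : O, (∀ i, act k (W i) = W i) → k ≠ 1 →
      ∃ k : O, k ≠ 1 ∧ g⁻¹ * k * g ∈ fixK F m ∧ g'⁻¹ * k * g' ∈ fixK F m := fun k hk hk1 =>
    ⟨k, hk1, fun i hi => by
      rw [act_mul, act_mul]
      exact (congrArg (act g⁻¹) (hk (.inl ⟨i.1, by omega⟩))).trans (act_inv g _),
      fun i hi => by
      rw [act_mul, act_mul]
      exact (congrArg (act g'⁻¹) (hk (.inr ⟨i.1, by omega⟩))).trans (act_inv g' _)⟩
  have refl : ∀ a ∈ LinearMap.ker Φ, Q a = 1 →
      ∃ k : O, k ≠ 1 ∧ g⁻¹ * k * g ∈ fixK F m ∧ g'⁻¹ * k * g' ∈ fixK F m := by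
    intro a ha hQ
    have haa : pol a a = 0 := by
      refine Finset.sum_eq_zero fun i _ => ?_
      rw [mul_comm (a (.inr i))]
      exact hs _
    let φ : (Fin m ⊕ Fin m → F) →ₗ[F] (Fin m ⊕ Fin m → F) := (polL a).smulRight a
    have hφ : ∀ v, φ v = pol v a • a := fun v => rfl
    refine done (mkInvol φ hF (fun v => by rw [hφ, hφ, pol_smul_left, haa, mul_zero, zero_smul])
      (fun v => by
        rw [hφ, qf_add, qf_smul, hQ, pol_smul_right, mul_one, add_assoc, hs, add_zero]))
      (fun i => by rw [act_mkInvol, hφ, hperp a ha i, zero_smul, add_zero]) fun h1 => ?_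
    have hne : a ≠ 0 := fun e => by
      rw [e] at hQ
      simp [Cfsg.quadFormPlus] at hQ
    apply hne
    funext j
    have key : ∀ v, pol v a = 0 := fun v => by
      have h := congrArg (fun k : O => act k v) h1
      simp only [act_mkInvol, act_one, hφ, add_eq_left, smul_eq_zero] at h
      exact h.resolve_right hne
    rcases j with j | j
    · rw [← pol_single_inr a j, pol_comm, key]; rfl
    · rw [← pol_single_inl a j, pol_comm, key]; rfl
  rcases h2 (Q x) with qx | qx
  swap
  · exact refl x (f 0).2 qx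
  rcases h2 (Q y) with qy | qy
  swap
  · exact refl y (f 1).2 qy
  rcases h2 (Q (x + y)) with qxy | qxy
  swap
  · exact refl (x + y) (add_mem (f 0).2 (f 1).2) qxy
  have bxy : pol x y = 0 := by rw [pol_eq, qx, qy, qxy]; simp
  have bxx : ∀ a, Q a = 0 → pol a a = 0 := fun a ha => by
    rw [pol_eq, show a + a = 0 from funext fun i => hs (a i), ha]
    simp [Cfsg.quadFormPlus]
  let φ : (Fin m ⊕ Fin m → F) →ₗ[F] (Fin m ⊕ Fin m → F) :=
    (polL x).smulRight y + (polL y).smulRight x
  have hφ : ∀ v, φ v = pol v x • y + pol v y • x := fun v => rfl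
  refine done (mkInvol φ hF (fun v => by
      rw [hφ, hφ, pol_add_left, pol_add_left, pol_smul_left, pol_smul_left, pol_smul_left,
        pol_smul_left, bxx x qx, bxx y qy, bxy, pol_comm y x, bxy]
      simp)
    (fun v => by
      rw [hφ, qf_add, qf_add, qf_smul, qf_smul, qx, qy, pol_add_right, pol_smul_right, pol_smul_right,
        pol_smul_left, pol_smul_right, pol_comm y x, bxy]
      linear_combination hs (pol v x * pol v y)))
    (fun i => by
      rw [act_mkInvol, hφ, hperp x (f 0).2 i, hperp y (f 1).2 i, zero_smul, zero_smul, add_zero,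
        add_zero]) fun h1 => ?_
  have key : ∀ v, pol v x = 0 := fun v => by
    have h := congrArg (fun k : O => act k v) h1
    simp only [act_mkInvol, act_one, hφ, add_eq_left] at h
    exact (hxy (pol v y) (pol v x) (Subtype.ext (by rw [add_comm] at h; exact h))).2
  refine one_ne_zero (α := F) (hxy 1 0 (Subtype.ext ?_)).1
  show (1 : F) • x + (0 : F) • y = 0
  rw [one_smul, zero_smul, add_zero]
  funext j
  rcases j with j | j
  · rw [← pol_single_inr x j, pol_comm, key]; rfl
  · rw [← pol_single_inl x j, pol_comm, key]; rfl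

theorem sylow_inter_ne_bot (hF : Fintype.card F = 2) (hm : 1 ≤ m) (H : Sylow 2 O) (x : O) :
    (H : Subgroup O) ⊓ MulAut.conj x • (H : Subgroup O) ≠ ⊥ := by
  classical
  haveI : Fact (Nat.Prime 2) := ⟨Nat.prime_two⟩
  obtain ⟨H0, hH0⟩ := (isPGroup_fixK hF hm).exists_le_sylow
  obtain ⟨c, rfl⟩ := MulAction.exists_smul_eq O H0 H
  obtain ⟨k, hk1, hk, hk'⟩ := exists_common hF hm c (x * c)
  intro h
  apply hk1
  rw [← Subgroup.mem_bot, ← h, Subgroup.mem_inf]
  simp only [Sylow.coe_subgroup_smul, Subgroup.mem_pointwise_smul_iff_inv_smul_mem, MulAut.smul_def,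
    MulAut.conj_inv_apply]
  refine ⟨hH0 hk, ?_⟩
  have := hH0 hk'
  rwa [_root_.mul_inv_rev, show c⁻¹ * x⁻¹ * k * (x * c) = c⁻¹ * (x⁻¹ * k * x) * c by group] at this

end Cfsg.Agent.Lib.SylowPair50
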